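import Groth.Prelude.Def_StCoh
import Groth.Prelude.Def_GmPts
import Groth.Prelude.Def_AlgSt5
import Groth.Agent.QuotLib.TrivHom
import Mathlib.RingTheory.AdjoinRoot
import Mathlib.RingTheory.Flat.FaithfullyFlat.Algebra
import Mathlib.AlgebraicGeometry.Morphisms.Flat
import Mathlib.AlgebraicGeometry.Sites.Fpqc
import Mathlib.Algebra.Homology.DerivedCategory.Ext.ExactSequences
import Mathlib.CategoryTheory.Sites.EpiMono

/-!
# The Kummer sequence on the fppf site of a quotient stack and on its cohomology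
-/

set_option autoImplicit false
set_option linter.style.haveILetI false

universe u

open CategoryTheory CategoryTheory.Limits CategoryTheory.Abelian MonoidalCategory CartesianMonoidalCategory MonObj AlgebraicGeometry Opposite

namespace Groth.Agent.StCoh10

set_option maxHeartbeats 800000 in
/-- A unit of the global functions has an n-th root after one fppf covering. -/
theorem exists_fppf_root (T : Scheme.{u}) (v : Γ(T, ⊤)ˣ) {n : ℕ} (hn : 0 < n) :
    ∃ (T' : Scheme.{u}) (g : T' ⟶ T) (w : Γ(T', ⊤)ˣ), Flat g ∧ Surjective g ∧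
      LocallyOfFinitePresentation g ∧ w ^ n = Units.map g.appTop.hom.toMonoidHom v := by
  let f : Polynomial (Γ(T, ⊤) : Type u) := Polynomial.X ^ n - Polynomial.C (v : Γ(T, ⊤))
  have hf : f.Monic := Polynomial.monic_X_pow_sub_C _ hn.ne'
  have : Module.Free Γ(T, ⊤) (AdjoinRoot f) := hf.free_adjoinRoot
  have : Module.Finite Γ(T, ⊤) (AdjoinRoot f) := hf.finite_adjoinRoot
  have : Algebra.FinitePresentation Γ(T, ⊤) (AdjoinRoot f) := inferInstance
  let φ : Γ(T, ⊤) ⟶ CommRingCat.of (AdjoinRoot f) := CommRingCat.ofHom (algebraMap Γ(T, ⊤) (AdjoinRoot f))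
  have h1 : Flat (Spec.map φ) :=
    (HasRingHomProperty.Spec_iff (P := @Flat)).mpr ((RingHom.flat_algebraMap_iff).mpr inferInstance)
  have h2 : Surjective (Spec.map φ) := by
    cases subsingleton_or_nontrivial Γ(T, ⊤)
    · exact ⟨fun x => (IsEmpty.false (α := PrimeSpectrum Γ(T, ⊤)) x).elim⟩
    · have : Nontrivial (AdjoinRoot f) :=
        nontrivial_of_ne _ _ ((AdjoinRoot.powerBasis' hf).basis.ne_zero ⟨0, by
          rw [AdjoinRoot.powerBasis'_dim, Polynomial.natDegree_X_pow_sub_C]; omega⟩)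
      exact ((flat_and_surjective_SpecMap_iff φ).mpr
        (RingHom.faithfullyFlat_algebraMap_iff.mpr inferInstance)).2
  have h3 : LocallyOfFinitePresentation (Spec.map φ) :=
    (HasRingHomProperty.Spec_iff (P := @LocallyOfFinitePresentation)).mpr
      (RingHom.finitePresentation_algebraMap.mpr inferInstance)
  let g := pullback.fst T.toSpecΓ (Spec.map φ)
  let r : Γ(pullback T.toSpecΓ (Spec.map φ), ⊤) :=
    (pullback.snd T.toSpecΓ (Spec.map φ)).appTop ((Scheme.ΓSpecIso (CommRingCat.of (AdjoinRoot f))).inv (AdjoinRoot.root f))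
  have hroot : (AdjoinRoot.root f) ^ n = algebraMap Γ(T, ⊤) (AdjoinRoot f) (v : Γ(T, ⊤)) := by
    have := AdjoinRoot.eval₂_root f
    simp only [f, Polynomial.eval₂_sub, Polynomial.eval₂_X_pow, Polynomial.eval₂_C, sub_eq_zero] at this
    exact this
  have hr : r ^ n = g.appTop (v : Γ(T, ⊤)) := by
    have e := congrArg Scheme.Hom.appTop (pullback.condition (f := T.toSpecΓ) (g := Spec.map φ))
    rw [Scheme.Hom.comp_appTop, Scheme.Hom.comp_appTop, Scheme.toSpecΓ_appTop] at e
    have e' := congrArg (fun ψ => (ConcreteCategory.hom ψ) ((Scheme.ΓSpecIso Γ(T, ⊤)).inv (v : Γ(T, ⊤)))) e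
    simp only [CommRingCat.comp_apply, Iso.inv_hom_id_apply] at e'
    have e2 := congrArg (fun ψ => (ConcreteCategory.hom ψ) (v : Γ(T, ⊤))) (Scheme.ΓSpecIso_inv_naturality φ)
    simp only [CommRingCat.comp_apply] at e2
    rw [e', ← e2, ← map_pow, ← map_pow, hroot]
    rfl
  have hu : IsUnit r := (isUnit_pow_iff hn.ne').1 (hr ▸ v.isUnit.map g.appTop.hom)
  exact ⟨_, g, hu.unit, inferInstance, inferInstance, inferInstance,
    Units.ext (by rw [Units.val_pow_eq_pow_val, IsUnit.unit_spec, hr]; rfl)⟩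

variable {S : Scheme.{u}}

theorem exists_nsmul_eq {𝒴 : AlgSt.Cat S} [StCoh.BaseCont Scheme.fppfPrecoverage 𝒴]
    (H : Over S) [GrpObj H] [IsCommMonObj H] {n : ℕ} {B A : 𝒴.obj} (f : B ⟶ A)
    (s : ToType (((StCoh.ofBase Scheme.fppfPrecoverage 𝒴 AddCommGrpCat.{u + 1}).obj
      (CGrpSh.pts Scheme.fppfPrecoverage H)).obj.obj (op A)))
    (y : 𝒴.p.obj B ⟶ H) (hy : y ^ n = 𝒴.p.map f ≫ s.down.toMul) :
    Presheaf.imageSieve (n • 𝟙 ((StCoh.ofBase Scheme.fppfPrecoverage 𝒴 AddCommGrpCat.{u + 1}).obj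
      (CGrpSh.pts Scheme.fppfPrecoverage H))).hom s f :=
  ⟨ULift.up (Additive.ofMul y), by
    show n • (ULift.up (Additive.ofMul y) : ULift.{u + 1} (Additive (𝒴.p.obj B ⟶ H))) = _
    exact congrArg (fun z => ULift.up (Additive.ofMul z)) hy⟩

theorem exists_root_point (S : Scheme.{u}) (T : Over S) (t : T ⟶ Red.Gm S) {n : ℕ} (hn : 0 < n) :
    ∃ (W' : Scheme.{u}) (g : W' ⟶ T.left) (y : Over.mk (g ≫ T.hom) ⟶ Red.Gm S), Flat g ∧ Surjective g ∧
      LocallyOfFinitePresentation g ∧ y ^ n = (Over.homMk g rfl : Over.mk (g ≫ T.hom) ⟶ T) ≫ t := by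
  obtain ⟨W', g, w, h1, h2, h3, hw⟩ := exists_fppf_root T.left (GmPts.unitOfPt t) hn
  refine ⟨W', g, GmPts.ptOfUnit (T := Over.mk (g ≫ T.hom)) w, h1, h2, h3, (GmPts.equiv _).injective ?_⟩
  rw [map_pow, GmPts.equiv_apply, GmPts.equiv_apply, GmPts.unitOfPt_ptOfUnit, GmPts.unitOfPt_comp]
  exact hw

/-- A sieve which covers fppf-locally on the members of a covering covers. -/
theorem mem_of_local {U : Over S} (P : Sieve U) {R : Presieve U.left} (hR : R ∈ Scheme.fppfPrecoverage U.left)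
    (h : ∀ ⦃W : Scheme.{u}⦄ (b : W ⟶ U.left), R b → ∃ (W' : Scheme.{u}) (g : W' ⟶ W), Flat g ∧ Surjective g ∧
      LocallyOfFinitePresentation g ∧ P (Over.homMk (g ≫ b) rfl : Over.mk ((g ≫ b) ≫ U.hom) ⟶ U)) :
    P ∈ QuotSh.J Scheme.fppfPrecoverage S U := by
  rw [GrothendieckTopology.mem_over_iff]
  refine GrothendieckTopology.transitive _ (Precoverage.generate_mem_toGrothendieck hR) _ ?_
  rintro V f ⟨W, a, b, hb, rfl⟩
  obtain ⟨W', g, hg1, hg2, hg3, hg⟩ := h b hb
  rw [Sieve.pullback_comp]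
  refine GrothendieckTopology.pullback_stable _ a (GrothendieckTopology.superset_covering _ ?_
    (Precoverage.generate_mem_toGrothendieck g.singleton_mem_fppfPrecoverage))
  rw [Sieve.generate_le_iff]
  rintro _ _ ⟨⟩
  show (Sieve.overEquiv _ _) (g ≫ b)
  rw [Sieve.overEquiv_iff]
  exact hg

section Stack

open Groth.Agent.QuotLib AlgSt

variable {G : Over S} [GrpObj G] {X : Over S} {aX : AlgGrp.Action G X}

local notation "𝒳" => AlgSt.QuotSt Scheme.fppfPrecoverage G aX

set_option backward.isDefEq.respectTransparency false in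
set_option backward.isDefEq.respectTransparency.types false in
theorem epi_nsmul [StCoh.BaseCont Scheme.fppfPrecoverage 𝒳] {n : ℕ} (H : Over S) [GrpObj H] [IsCommMonObj H]
    (hroot : ∀ (T : Over S) (t : T ⟶ H), ∃ (W' : Scheme.{u}) (g : W' ⟶ T.left) (y : Over.mk (g ≫ T.hom) ⟶ H),
      Flat g ∧ Surjective g ∧ LocallyOfFinitePresentation g ∧
        y ^ n = (Over.homMk g rfl : Over.mk (g ≫ T.hom) ⟶ T) ≫ t) :
    Epi (n • 𝟙 ((StCoh.ofBase Scheme.fppfPrecoverage 𝒳 AddCommGrpCat.{u + 1}).obj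
      (CGrpSh.pts Scheme.fppfPrecoverage H))) := by
  refine (Sheaf.isLocallySurjective_iff_epi' _ _).1 ⟨fun {A} s => ?_⟩
  refine Functor.mem_restrictedTopology_of_functorPushforward_mem ?_
  obtain ⟨R, hR, htriv⟩ := exists_cover_triv A
  refine mem_of_local (U := A.base) _ hR fun W b hb => ?_
  obtain ⟨x, h, hh⟩ := htriv b hb
  obtain ⟨W', g, y, hg1, hg2, hg3, hy⟩ := hroot (Over.mk (b ≫ A.base.hom)) (h.base ≫ s.down.toMul)
  refine ⟨W', g, hg1, hg2, hg3, ?_⟩
  let T' : Over S := Over.mk (g ≫ b ≫ A.base.hom)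
  let g' : T' ⟶ Over.mk (b ≫ A.base.hom) := Over.homMk g rfl
  let k : triv Scheme.fppfPrecoverage G aX (g' ≫ x) ⟶ triv Scheme.fppfPrecoverage G aX x :=
    trivHom _ (g' ≫ sec G _) (g' ≫ x) (by rw [Category.assoc, sec_φ])
  have hk : k.base = g' := by
    show (g' ≫ sec G _) ≫ snd G _ = g'
    rw [Category.assoc, sec, CartesianMonoidalCategory.lift_snd, Category.comp_id]
  let B := triv Scheme.fppfPrecoverage G aX (g' ≫ x)
  have hB : B.base = T' := rfl
  let q : Over.mk ((g ≫ b) ≫ A.base.hom) ⟶ B.base := Over.homMk (𝟙 _) (Category.id_comp _)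
  refine ⟨B, k ≫ h, q, exists_nsmul_eq (𝒴 := 𝒳) (B := B) (A := A) H (k ≫ h) s y ?_, ?_⟩
  · show y ^ n = (k ≫ h).base ≫ _
    rw [QuotObj.comp_base, hk, Category.assoc]
    exact hy
  · refine Over.OverMorphism.ext ?_
    show g ≫ b = 𝟙 _ ≫ (k ≫ h).base.left
    rw [Category.id_comp, QuotObj.comp_base, hk, hh]
    rfl

theorem kummer_shortExact [StCoh.BaseCont Scheme.fppfPrecoverage 𝒳] {n : ℕ} (hn : 0 < n) :
    (ShortComplex.mk (StCoh.muι Scheme.fppfPrecoverage 𝒳 n) (StCoh.powMap Scheme.fppfPrecoverage 𝒳 n)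
      (kernel.condition _)).ShortExact := by
  haveI : Epi (StCoh.powMap Scheme.fppfPrecoverage 𝒳 n) :=
    epi_nsmul (Red.Gm S) fun T t => exists_root_point S T t hn
  exact ShortComplex.ShortExact.mk' (ShortComplex.exact_of_f_is_kernel _
    (kernelIsKernel _)) inferInstance inferInstance

end Stack

section LongExact

variable {C : Type*} [Category C] {J : GrothendieckTopology C} [HasSheafify J AddCommGrpCat.{u + 1}]
  [HasExt.{u + 1} (Sheaf J AddCommGrpCat.{u + 1})]

theorem H_map_nsmul (F : Sheaf J AddCommGrpCat.{u + 1}) (i n : ℕ) (ξ : Sheaf.H F i) :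
    Sheaf.H.map (n • 𝟙 F) i ξ = n • ξ := by
  induction n with
  | zero => rw [zero_nsmul, zero_nsmul, Sheaf.H.map_apply, Ext.mk₀_zero, Ext.comp_zero]
  | succ n ih => rw [succ_nsmul, succ_nsmul, Sheaf.H.map_add_apply, ih, Sheaf.H.map_id_apply]

/-- The two halves of the Kummer sequence on cohomology in degree `i + 1`. -/
theorem kummer_halves {F M : Sheaf J AddCommGrpCat.{u + 1}} {n : ℕ} {jm : M ⟶ F} (w : jm ≫ (n • 𝟙 F) = 0)
    (hS : (ShortComplex.mk jm (n • 𝟙 F) w).ShortExact) (i : ℕ) :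
    (Sheaf.H.map jm (i + 1)).range = (DistribSMul.toAddMonoidHom (Sheaf.H F (i + 1)) n).ker ∧
      Nonempty ((Sheaf.H.map jm (i + 1)).ker ≃+
        Sheaf.H F i ⧸ (DistribSMul.toAddMonoidHom (Sheaf.H F i) n).range) := by
  constructor
  · ext ξ
    simp only [AddMonoidHom.mem_range, AddMonoidHom.mem_ker, DistribSMul.toAddMonoidHom_apply]
    constructor
    · rintro ⟨et, rfl⟩
      rw [← H_map_nsmul, ← Sheaf.H.map_comp_apply, w, Sheaf.H.map_apply, Ext.mk₀_zero, Ext.comp_zero]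
    · intro h
      obtain ⟨et, het⟩ := Ext.covariant_sequence_exact₂ _ hS ξ ((Sheaf.H.map_apply _ _).symm.trans
        ((H_map_nsmul F (i + 1) n ξ).trans h))
      exact ⟨et, (Sheaf.H.map_apply _ _).trans het⟩
  · let δ : Sheaf.H F i →+ Sheaf.H M (i + 1) := hS.extClass.postcomp _ rfl
    have h1 : δ.range = (Sheaf.H.map jm (i + 1)).ker := by
      ext ξ
      simp only [AddMonoidHom.mem_range, AddMonoidHom.mem_ker]
      constructor
      · rintro ⟨et, rfl⟩
        rw [Sheaf.H.map_apply]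
        show (Ext.comp et hS.extClass rfl).comp (Ext.mk₀ jm) (add_zero _) = 0
        rw [Ext.comp_assoc_of_third_deg_zero, hS.extClass_comp, Ext.comp_zero]
      · intro h
        exact Ext.covariant_sequence_exact₁ _ hS ξ ((Sheaf.H.map_apply _ _).symm.trans h) rfl
    have h2 : δ.ker = (DistribSMul.toAddMonoidHom (Sheaf.H F i) n).range := by
      ext ξ
      simp only [AddMonoidHom.mem_range, AddMonoidHom.mem_ker, DistribSMul.toAddMonoidHom_apply]
      constructor
      · intro h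
        obtain ⟨et, het⟩ := Ext.covariant_sequence_exact₃ _ hS ξ rfl h
        exact ⟨et, ((H_map_nsmul F i n et).symm.trans (Sheaf.H.map_apply _ _)).trans het⟩
      · rintro ⟨et, rfl⟩
        rw [← H_map_nsmul, Sheaf.H.map_apply]
        show ((Ext.comp et (Ext.mk₀ (n • 𝟙 F)) (add_zero i)).comp hS.extClass rfl) = 0
        rw [Ext.comp_assoc_of_second_deg_zero, hS.comp_extClass, Ext.comp_zero]
    exact ⟨(AddEquiv.addSubgroupCongr h1.symm).trans
      ((QuotientAddGroup.quotientKerEquivRange δ).symm.trans (QuotientAddGroup.quotientAddEquivOfEq h2))⟩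

end LongExact

end Groth.Agent.StCoh10
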